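import Mathlib.Algebra.BigOperators.Fin
import Mathlib.Data.Fintype.Powerset
import Mathlib.Algebra.BigOperators.Group.Finset.Powerset
import Mathlib.Algebra.Ring.Int.Parity
import Mathlib.Tactic.LinearCombination
import Mathlib.Tactic.Module
import Mathlib.Tactic.Abel

/-!
# Deviations of maps of abelian groups
-/

namespace Groth.Agent.Lib.PtDeg.Basic

open Finset

variable {A G : Type*} [AddCommGroup A] [AddCommGroup G]

/-- Deviation summed over all subsets of `s`, including the empty one. -/
def E {ι : Type*} (s : Finset ι) (x : ι → A) (f : A → G) : G :=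
  ∑ I ∈ s.powerset, ((-1 : ℤ) ^ (s.card + I.card)) • f (∑ i ∈ I, x i)

theorem E_empty {ι : Type*} (x : ι → A) (f : A → G) : E ∅ x f = f 0 := by simp [E]

theorem E_insert {ι : Type*} [DecidableEq ι] {s : Finset ι} {j : ι} (hj : j ∉ s) (x : ι → A)
    (f : A → G) : E (insert j s) x f = E s x (fun c ↦ f (c + x j)) - E s x f := by
  rw [E, Finset.sum_powerset_insert hj, E, E, card_insert_of_notMem hj, sub_eq_add_neg, add_comm,
    ← Finset.sum_neg_distrib]
  congr 1
  · refine Finset.sum_congr rfl fun I hI ↦ ?_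
    have hjI : j ∉ I := fun h ↦ hj (Finset.mem_powerset.mp hI h)
    rw [card_insert_of_notMem hjI, Finset.sum_insert hjI, add_comm (x j),
      show s.card + 1 + (I.card + 1) = s.card + I.card + 2 by omega, pow_add (-1 : ℤ) _ 2, neg_one_sq,
      mul_one]
  · refine Finset.sum_congr rfl fun I _ ↦ ?_
    rw [show s.card + 1 + I.card = s.card + I.card + 1 by omega, pow_succ, mul_neg_one, neg_smul]

theorem E_congr {ι : Type*} (s : Finset ι) {x y : ι → A} (h : ∀ i ∈ s, x i = y i) (f : A → G) :
    E s x f = E s y f :=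
  Finset.sum_congr rfl fun I hI ↦ by
    rw [Finset.sum_congr rfl fun i hi ↦ h i (Finset.mem_powerset.mp hI hi)]

theorem E_map {ι κ : Type*} [DecidableEq ι] [DecidableEq κ] (e : ι ↪ κ) (s : Finset ι) (z : κ → A)
    (f : A → G) : E (s.map e) z f = E s (fun i ↦ z (e i)) f := by
  induction s using Finset.induction generalizing f with
  | empty => simp [E_empty]
  | insert j t hj ih =>
    rw [Finset.map_insert, E_insert (fun h ↦ hj ((Finset.mem_map' e).mp h)), E_insert hj, ih, ih]

theorem E_eq_zero {ι : Type*} [DecidableEq ι] {s : Finset ι} {i : ι} (hi : i ∈ s) (x : ι → A)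
    (hx : x i = 0) (f : A → G) : E s x f = 0 := by
  rw [← Finset.insert_erase hi, E_insert (Finset.notMem_erase i s)]
  simp [hx]

/-- The deviation. -/
def D (n : ℕ) (x : Fin n → A) (f : A → G) : G :=
  ∑ I ∈ ((Finset.univ : Finset (Fin n)).powerset.erase ∅),
    ((-1 : ℤ) ^ (n + I.card)) • f (∑ i ∈ I, x i)

theorem D_eq (n : ℕ) (x : Fin n → A) (f : A → G) :
    D n x f = E Finset.univ x f - ((-1 : ℤ) ^ n) • f 0 := by
  rw [E, eq_sub_iff_add_eq, ← Finset.sum_erase_add _ _ (Finset.empty_mem_powerset _)]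
  simp [D]

theorem D_snoc (n : ℕ) (j : Fin n) (y : Fin n → A) (a b : A) (f : A → G) :
    D (n + 1) (Fin.snoc (Function.update y j a) b) f =
      D n (Function.update y j (a + b)) f -
        (D n (Function.update y j a) f + D n (Function.update y j b) f) := by
  classical
  set s := (Finset.univ : Finset (Fin n)).erase j
  have hu : (Finset.univ : Finset (Fin n)) = insert j s :=
    (Finset.insert_erase (Finset.mem_univ j)).symm
  have hj : j ∉ s := Finset.notMem_erase _ _
  have h1 : ∀ (c : A) (g : A → G),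
      E Finset.univ (Function.update y j c) g = E s y (fun d ↦ g (d + c)) - E s y g := by
    intro c g
    rw [hu, E_insert hj, Function.update_self,
      E_congr s (fun i hi ↦ Function.update_of_ne (Finset.ne_of_mem_erase hi) c y),
      E_congr s (fun i hi ↦ Function.update_of_ne (Finset.ne_of_mem_erase hi) c y)]
  have h2 : (Finset.univ : Finset (Fin (n + 1))) =
      insert (Fin.last n) ((Finset.univ : Finset (Fin n)).map Fin.castSuccEmb) := by
    ext i
    rcases Fin.eq_castSucc_or_eq_last i with ⟨k, rfl⟩ | rfl <;> simp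
  have h3 : Fin.last n ∉ (Finset.univ : Finset (Fin n)).map Fin.castSuccEmb := by
    simp [Fin.castSucc_ne_last]
  rw [D_eq, D_eq, D_eq, D_eq, h2, E_insert h3, E_map, E_map, Fin.snoc_last]
  simp only [Fin.coe_castSuccEmb, Fin.snoc_castSucc]
  simp only [h1]
  have h4 : (fun d ↦ f (d + a + b)) = fun d ↦ f (d + (a + b)) := funext fun d ↦ by rw [add_assoc]
  rw [h4, pow_succ, mul_neg_one, neg_smul]
  abel

section Deg2

variable (f : A → G)
variable (hf : ∀ x y z : A, f (x + y + z) + f x + f y + f z = f (x + y) + f (x + z) + f (y + z))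

include hf in
theorem map_zero_of_deg2 : f 0 = 0 := by
  have := hf 0 0 0
  simp only [add_zero] at this
  have h : f 0 + f 0 + f 0 + f 0 = f 0 + f 0 + f 0 := this
  simpa using h

/-- The bilinear deviation. -/
def B (x y : A) : G := f (x + y) - f x - f y

include hf in
theorem B_add_left (a b y : A) : B f (a + b) y = B f a y + B f b y := by
  rw [B, B, B, eq_sub_of_add_eq (eq_sub_of_add_eq (eq_sub_of_add_eq (hf a b y)))]
  abel

include hf in
theorem B_zsmul_left (n : ℤ) (x y : A) : B f (n • x) y = n • B f x y :=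
  map_zsmul (AddMonoidHom.mk' (fun a ↦ B f a y) (fun a b ↦ B_add_left f hf a b y)) n x

include hf in
theorem B_self (x : A) : B f x x = f x + f (-x) := by
  have h := B_zsmul_left f hf (-1) x x
  rw [neg_one_zsmul, neg_one_zsmul] at h
  rw [← neg_neg (B f x x), ← h, B, neg_add_cancel, map_zero_of_deg2 f hf]
  abel

include hf in
theorem map_zsmul' (n : ℤ) (x : A) :
    f (n • x) = (n * (n + 1) / 2) • f x + (n * (n - 1) / 2) • f (-x) := by
  have step : ∀ k : ℤ, f ((k + 1) • x) = f (k • x) + f x + k • (f x + f (-x)) := fun k ↦ by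
    rw [add_zsmul, one_zsmul, ← B_self f hf x, ← B_zsmul_left f hf, B]
    abel
  have e1 : ∀ k : ℤ, (k + 1) * (k + 1 + 1) / 2 = k * (k + 1) / 2 + (k + 1) := fun k ↦ by
    rw [show (k + 1) * (k + 1 + 1) = k * (k + 1) + (k + 1) * 2 by ring,
      Int.add_mul_ediv_right _ _ two_ne_zero]
  have e2 : ∀ k : ℤ, (k + 1) * (k + 1 - 1) / 2 = k * (k - 1) / 2 + k := fun k ↦ by
    rw [show (k + 1) * (k + 1 - 1) = k * (k - 1) + k * 2 by ring,
      Int.add_mul_ediv_right _ _ two_ne_zero]
  induction n using Int.induction_on with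
  | zero => simp [map_zero_of_deg2 f hf]
  | succ i ih => rw [step, ih, e1, e2]; module
  | pred i ih =>
    have hs := step (-(i : ℤ) - 1)
    have h1 := e1 (-(i : ℤ) - 1)
    have h2 := e2 (-(i : ℤ) - 1)
    rw [sub_add_cancel] at hs h1 h2
    rw [ih, h1, h2] at hs
    rw [eq_comm, add_assoc, ← eq_sub_iff_add_eq] at hs
    rw [hs, sub_add_cancel]
    module

include hf in
theorem zsmul_eq_zero (n : ℤ) (hn : ∀ x : A, n • x = 0) :
    (∀ x : A, (2 * n) • f x = 0) ∧ (Odd n → ∀ x : A, n • f x = 0) := by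
  have h0 := map_zero_of_deg2 f hf
  have hB : ∀ x, n • (f x + f (-x)) = 0 := fun x ↦ by
    rw [← B_self f hf, ← B_zsmul_left f hf, hn, B, zero_add, h0]
    abel
  have key : ∀ x, n • f x + (n * (n - 1) / 2) • (f x + f (-x)) = 0 := fun x ↦ by
    have h := map_zsmul' f hf n x
    rw [hn, h0] at h
    have e : n * (n + 1) / 2 = n * (n - 1) / 2 + n := by
      rw [show n * (n + 1) = n * (n - 1) + n * 2 by ring, Int.add_mul_ediv_right _ _ two_ne_zero]
    rw [e] at h
    rw [h]
    module
  refine ⟨fun x ↦ ?_, fun ho x ↦ ?_⟩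
  · have h := congrArg (fun g : G ↦ (2 : ℤ) • g) (key x)
    simp only [smul_add, smul_smul, smul_zero] at h
    rw [Int.mul_ediv_cancel' (Int.even_mul_pred_self n).two_dvd] at h
    have h' : (n * (n - 1)) • f x + (n * (n - 1)) • f (-x) = 0 := by
      rw [← smul_add, mul_comm, mul_smul, hB, smul_zero]
    rw [h', add_zero] at h
    exact h
  · obtain ⟨k, rfl⟩ := ho
    have h := key x
    rw [show (2 * k + 1) * (2 * k + 1 - 1) = k * (2 * k + 1) * 2 by ring,
      Int.mul_ediv_cancel _ two_ne_zero, mul_smul, hB, smul_zero, add_zero] at h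
    exact h

end Deg2

end Groth.Agent.Lib.PtDeg.Basic
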