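import Groth.Agent.Lib.PtDeg.Basic
import Mathlib.MeasureTheory.Constructions.Pi
import Mathlib.MeasureTheory.Group.Integral
import Mathlib.MeasureTheory.Integral.Prod
import Mathlib.MeasureTheory.Group.Measure
import Mathlib.Topology.ContinuousMap.Compact
import Mathlib.Topology.CompactOpen

/-!
# Continuous cocycles on compact groups are deviations
-/

namespace Groth.Agent.Lib.PtDeg.Haar

open MeasureTheory Set Filter Topology

/-- A real continuous function on a finite product of compact spaces is measurable for the product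
of the Borel σ-algebras. -/
theorem measurable_pi_of_continuous {ι : Type*} [Finite ι] {G : Type*} [TopologicalSpace G]
    [CompactSpace G] [MeasurableSpace G] [OpensMeasurableSpace G] {f : (ι → G) → ℝ}
    (hf : Continuous f) : Measurable f := by
  refine measurable_of_Ioi fun r ↦ ?_
  have h : ∀ n : ℕ, ∃ M : Set (ι → G), MeasurableSet M ∧
      f ⁻¹' Ici (r + 1 / (n + 1 : ℝ)) ⊆ M ∧ M ⊆ f ⁻¹' Ioi r := by
    intro n
    have hK : IsCompact (f ⁻¹' Ici (r + 1 / (n + 1 : ℝ))) := (isClosed_Ici.preimage hf).isCompact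
    have hbox : ∀ x ∈ f ⁻¹' Ici (r + 1 / (n + 1 : ℝ)), ∃ B : Set (ι → G),
        IsOpen B ∧ MeasurableSet B ∧ x ∈ B ∧ B ⊆ f ⁻¹' Ioi r := by
      intro x hx
      have hxr : f x ∈ Ioi r := lt_of_lt_of_le (lt_add_of_pos_right r (by positivity)) hx
      obtain ⟨I, u, hu, hsub⟩ := isOpen_pi_iff.mp (isOpen_Ioi.preimage hf) x hxr
      exact ⟨(I : Set ι).pi u, isOpen_set_pi I.finite_toSet fun i hi ↦ (hu i hi).1,
        MeasurableSet.pi I.finite_toSet.countable fun i hi ↦ (hu i hi).1.measurableSet,
        fun i hi ↦ (hu i hi).2, hsub⟩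
    choose B hBo hBm hxB hBsub using hbox
    obtain ⟨T, hT⟩ := hK.elim_finite_subcover (fun x : ↥(f ⁻¹' Ici (r + 1 / (n + 1 : ℝ))) ↦ B x x.2)
      (fun x ↦ hBo x x.2) fun x hx ↦ mem_iUnion.mpr ⟨⟨x, hx⟩, hxB x hx⟩
    exact ⟨⋃ x ∈ T, B x x.2, T.measurableSet_biUnion fun x _ ↦ hBm x x.2, hT,
      iUnion₂_subset fun x _ ↦ hBsub x x.2⟩
  choose M hM hKM hMU using h
  have e : f ⁻¹' Ioi r = ⋃ n, M n := by
    refine subset_antisymm (fun x hx ↦ ?_) (iUnion_subset hMU)
    obtain ⟨n, hn⟩ := exists_nat_one_div_lt (sub_pos.mpr hx : 0 < f x - r)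
    exact mem_iUnion.mpr ⟨n, hKM n (show r + 1 / (n + 1 : ℝ) ≤ f x by linarith)⟩
  rw [e]
  exact MeasurableSet.iUnion hM

theorem integrable_pi_of_continuous {ι : Type*} [Fintype ι] {G : Type*} [TopologicalSpace G]
    [CompactSpace G] [MeasurableSpace G] [OpensMeasurableSpace G] (ν : Measure (ι → G))
    [IsFiniteMeasure ν] {f : (ι → G) → ℝ} (hf : Continuous f) : Integrable f ν := by
  obtain ⟨C, hC⟩ := isCompact_univ.exists_bound_of_continuousOn hf.continuousOn
  exact Integrable.of_bound (measurable_pi_of_continuous hf).aestronglyMeasurable C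
    (Eventually.of_forall fun x ↦ hC x (mem_univ x))

variable {G : Type*} [AddCommGroup G] [TopologicalSpace G] [IsTopologicalAddGroup G] [CompactSpace G]
  [MeasurableSpace G] [BorelSpace G] (μ : Measure G) [μ.IsAddLeftInvariant] [IsProbabilityMeasure μ]

omit [AddCommGroup G] [IsTopologicalAddGroup G] [μ.IsAddLeftInvariant] in
theorem integrable_of_continuous {f : G → ℝ} (hf : Continuous f) : Integrable f μ := by
  obtain ⟨C, hC⟩ := isCompact_univ.exists_bound_of_continuousOn hf.continuousOn
  exact Integrable.of_bound hf.aestronglyMeasurable C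
    (Eventually.of_forall fun x ↦ hC x (mem_univ x))

omit [AddCommGroup G] [IsTopologicalAddGroup G] [μ.IsAddLeftInvariant] in
theorem continuous_integral {Y : Type*} [TopologicalSpace Y] {F : Y × G → ℝ} (hF : Continuous F) :
    Continuous fun y ↦ ∫ c, F (y, c) ∂μ := by
  have hI : LipschitzWith 1 (fun f : C(G, ℝ) ↦ ∫ c, f c ∂μ) := by
    refine LipschitzWith.of_dist_le_mul fun f g ↦ ?_
    rw [dist_eq_norm, dist_eq_norm, ← integral_sub (integrable_of_continuous μ f.continuous)
      (integrable_of_continuous μ g.continuous)]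
    refine (norm_integral_le_of_norm_le_const (C := ‖f - g‖)
      (Eventually.of_forall fun c ↦ (f - g).norm_coe_le_norm c)).trans ?_
    simp
  exact hI.continuous.comp (ContinuousMap.curry ⟨F, hF⟩).continuous

/-- The integral of a translate along a sum of some coordinates. -/
theorem integral_sum_coords {m : ℕ} {φ : G → ℝ} (hφ : Continuous φ) {s : Finset (Fin m)}
    (hs : s.Nonempty) (t : G) :
    ∫ u, φ (t + ∑ l ∈ s, u l) ∂(Measure.pi fun _ : Fin m ↦ μ) = ∫ a, φ a ∂μ := by
  classical
  set ν := Measure.pi fun _ : Fin m ↦ μ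
  have hconst : ∀ a, ∫ u, φ (t + ∑ l ∈ s, u l) ∂ν = ∫ u, φ (a + ∑ l ∈ s, u l) ∂ν := by
    intro a
    obtain ⟨k, hk⟩ := hs
    let v : Fin m → G := Pi.single k (t - a)
    have hmp : MeasurePreserving (fun u : Fin m → G ↦ fun l ↦ v l + u l) ν ν :=
      measurePreserving_pi (fun _ ↦ μ) (fun _ ↦ μ) fun l ↦ measurePreserving_add_left μ (v l)
    have hf : Continuous fun u : Fin m → G ↦ φ (a + ∑ l ∈ s, u l) :=
      hφ.comp (continuous_const.add (continuous_finsetSum _ fun l _ ↦ continuous_apply l))
    have h2 := integral_map hmp.measurable.aemeasurable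
      (f := fun u : Fin m → G ↦ φ (a + ∑ l ∈ s, u l)) (by
        rw [hmp.map_eq]; exact (measurable_pi_of_continuous hf).aestronglyMeasurable)
    rw [hmp.map_eq] at h2
    rw [h2]
    refine integral_congr_ae (Eventually.of_forall fun u ↦ ?_)
    simp only [Finset.sum_add_distrib]
    rw [show ∑ l ∈ s, v l = t - a by simp [v, Finset.sum_pi_single', hk]]
    congr 1
    abel
  have hint : Integrable (Function.uncurry fun (a : G) (u : Fin m → G) ↦ φ (a + ∑ l ∈ s, u l))
      (μ.prod ν) := by
    obtain ⟨C, hC⟩ := isCompact_univ.exists_bound_of_continuousOn hφ.continuousOn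
    refine Integrable.of_bound ?_ C (Eventually.of_forall fun p ↦ hC _ (mem_univ _))
    have hm : Measurable fun p : G × (Fin m → G) ↦ (Fin.cons p.1 p.2 : Fin (m + 1) → G) := by
      refine measurable_pi_lambda _ (Fin.cases ?_ fun i ↦ ?_)
      · simpa using measurable_fst
      · simpa [Function.comp_def] using (measurable_pi_apply i).comp measurable_snd
    have hc : Continuous fun w : Fin (m + 1) → G ↦ φ (w 0 + ∑ l ∈ s, w l.succ) :=
      hφ.comp ((continuous_apply 0).add (continuous_finsetSum _ fun l _ ↦ continuous_apply _))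
    exact ((measurable_pi_of_continuous hc).comp hm).aestronglyMeasurable.congr
      (Eventually.of_forall fun p ↦ by simp [Function.uncurry])
  have h1 := integral_integral_swap hint
  calc ∫ u, φ (t + ∑ l ∈ s, u l) ∂ν = ∫ _a : G, ∫ u, φ (t + ∑ l ∈ s, u l) ∂ν ∂μ := by simp
    _ = ∫ a, ∫ u, φ (a + ∑ l ∈ s, u l) ∂ν ∂μ :=
        integral_congr_ae (Eventually.of_forall hconst)
    _ = ∫ u, ∫ a, φ (a + ∑ l ∈ s, u l) ∂μ ∂ν := h1
    _ = ∫ _u : Fin m → G, ∫ a, φ a ∂μ ∂ν :=
        integral_congr_ae (Eventually.of_forall fun u ↦ by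
          simp only [add_comm _ (∑ l ∈ s, u l)]
          exact integral_add_left_eq_self φ _)
    _ = ∫ a, φ a ∂μ := by simp

/-- A continuous function is recovered from its deviation by integration. -/
theorem integral_D {m : ℕ} {φ : G → ℝ} (hφ : Continuous φ) (g : G) :
    ∫ u, Basic.D (m + 1) (Fin.cons g u) φ ∂(Measure.pi fun _ : Fin m ↦ μ) = (-1 : ℝ) ^ m * φ g := by
  classical
  set ν := Measure.pi fun _ : Fin m ↦ μ
  set c := ∫ a, φ a ∂μ
  let S : Finset (Fin (m + 1)) → Finset (Fin m) := fun I ↦ Finset.univ.filter fun l ↦ l.succ ∈ I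
  have hsplit : ∀ (I : Finset (Fin (m + 1))) (u : Fin m → G),
      ∑ i ∈ I, (Fin.cons g u : Fin (m + 1) → G) i = (if 0 ∈ I then g else 0) + ∑ l ∈ S I, u l := by
    intro I u
    rw [← Finset.univ_inter I, ← Finset.sum_ite_mem, Fin.sum_univ_succ, Finset.univ_inter]
    simp [S, Finset.sum_filter]
  have hval : ∀ I ∈ (Finset.univ : Finset (Fin (m + 1))).powerset.erase ∅,
      ∫ u, φ (∑ i ∈ I, (Fin.cons g u : Fin (m + 1) → G) i) ∂ν =
        if I = {0} then φ g else c := by
    intro I hI
    simp only [hsplit]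
    rcases (S I).eq_empty_or_nonempty with h | h
    · have hI0 : I = {0} := by
        refine Finset.eq_singleton_iff_unique_mem.mpr ?_
        have hall : ∀ i ∈ I, i = 0 := fun i hi ↦ by
          rcases Fin.eq_zero_or_eq_succ i with rfl | ⟨l, rfl⟩
          · rfl
          · exact absurd (show l ∈ S I by simp [S, hi]) (by simp [h])
        obtain ⟨i, hi⟩ := Finset.nonempty_iff_ne_empty.mpr (Finset.mem_erase.mp hI).1
        exact ⟨hall i hi ▸ hi, hall⟩
      subst hI0
      simp [h]
    · rw [integral_sum_coords μ hφ h, if_neg]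
      rintro rfl
      obtain ⟨l, hl⟩ := h
      simp [S] at hl
  have hint : ∀ I ∈ (Finset.univ : Finset (Fin (m + 1))).powerset.erase ∅, Integrable
      (fun u : Fin m → G ↦ ((-1 : ℤ) ^ (m + 1 + I.card)) • φ (∑ i ∈ I, (Fin.cons g u : Fin (m + 1) → G) i)) ν := by
    intro I _
    refine integrable_pi_of_continuous ν ((hφ.comp (continuous_finsetSum _ fun i _ ↦ ?_)).zsmul _)
    rcases Fin.eq_zero_or_eq_succ i with rfl | ⟨l, rfl⟩
    · simpa using continuous_const
    · simpa using continuous_apply l
  simp only [Basic.D]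
  rw [integral_finsetSum _ hint]
  have h1 : ∀ I ∈ (Finset.univ : Finset (Fin (m + 1))).powerset.erase ∅,
      ∫ u, ((-1 : ℤ) ^ (m + 1 + I.card)) • φ (∑ i ∈ I, (Fin.cons g u : Fin (m + 1) → G) i) ∂ν =
      (-1 : ℝ) ^ (m + 1 + I.card) * c + if I = {0} then (-1 : ℝ) ^ m * (φ g - c) else 0 := by
    intro I hI
    simp only [zsmul_eq_mul, Int.cast_pow, Int.cast_neg, Int.cast_one]
    rw [integral_const_mul, hval I hI]
    split_ifs with h
    · subst h
      simp [pow_succ]
      ring
    · ring
  rw [Finset.sum_congr rfl h1, Finset.sum_add_distrib, ← Finset.sum_mul,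
    Finset.sum_ite_eq', if_pos (Finset.mem_erase.mpr ⟨Finset.singleton_ne_empty _,
      Finset.mem_powerset.mpr (Finset.subset_univ _)⟩)]
  have h2 : ∑ I ∈ (Finset.univ : Finset (Fin (m + 1))).powerset.erase ∅, (-1 : ℝ) ^ (m + 1 + I.card) =
      (-1 : ℝ) ^ m := by
    have h3 : ∑ I ∈ (Finset.univ : Finset (Fin (m + 1))).powerset, (-1 : ℤ) ^ I.card = 0 :=
      Finset.sum_powerset_neg_one_pow_card_of_nonempty Finset.univ_nonempty
    have h4 : ∑ I ∈ (Finset.univ : Finset (Fin (m + 1))).powerset, (-1 : ℝ) ^ I.card = 0 := by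
      exact_mod_cast h3
    rw [Finset.sum_erase_eq_sub (Finset.empty_mem_powerset _)]
    simp only [pow_add _ (m + 1), ← Finset.mul_sum, h4]
    simp [pow_succ]
  rw [h2]
  ring

include μ in
/-- A continuous pairwise cocycle on a compact group is the deviation of a continuous function. -/
theorem exists_eq_D (m : ℕ) (ψ : (Fin (m + 1) → G) → ℝ) (hψc : Continuous ψ)
    (hψ : ∀ (i j : Fin (m + 1)), i ≠ j → ∀ (x : Fin (m + 1) → G) (a b c : G),
      ψ (Function.update (Function.update x i (a + b)) j c) +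
          ψ (Function.update (Function.update x i a) j b) =
        ψ (Function.update (Function.update x i a) j (b + c)) +
          ψ (Function.update (Function.update x i b) j c)) :
    ∃ φ : G → ℝ, Continuous φ ∧ ∀ x, ψ x = Basic.D (m + 1) x φ := by
  induction m with
  | zero =>
    refine ⟨fun g ↦ ψ fun _ ↦ g, hψc.comp (continuous_pi fun _ ↦ continuous_id), fun x ↦ ?_⟩
    have hu : (Finset.univ : Finset (Fin 1)).powerset.erase ∅ = {{0}} := by decide
    have hx : x = fun _ ↦ x 0 := funext fun i ↦ by rw [Fin.fin_one_eq_zero i]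
    rw [Basic.D, hu, Finset.sum_singleton, Finset.sum_singleton, Finset.card_singleton]
    conv_lhs => rw [hx]
    simp
  | succ n ih =>
    let ψ' : (Fin (n + 1) → G) → ℝ := fun y ↦ -∫ c, ψ (Fin.snoc y c) ∂μ
    have hsn : ∀ y : Fin (n + 1) → G, Continuous fun c ↦ ψ (Fin.snoc y c) := fun y ↦
      hψc.comp (Continuous.finSnoc continuous_const continuous_id)
    have hc' : Continuous ψ' := (continuous_integral μ
      (F := fun p : (Fin (n + 1) → G) × G ↦ ψ (Fin.snoc p.1 p.2))
      (hψc.comp (Continuous.finSnoc continuous_fst continuous_snd))).neg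
    obtain ⟨φ, hφc, hφ⟩ := ih ψ' hc' fun i j hij y a b c ↦ by
      have h := fun d : G ↦ hψ i.castSucc j.castSucc (fun h ↦ hij (Fin.castSucc_injective _ h))
        (Fin.snoc y d) a b c
      simp only [← Fin.snoc_update] at h
      have h' : ∫ d, ψ (Fin.snoc (Function.update (Function.update y i (a + b)) j c) d) +
          ψ (Fin.snoc (Function.update (Function.update y i a) j b) d) ∂μ =
          ∫ d, ψ (Fin.snoc (Function.update (Function.update y i a) j (b + c)) d) +
          ψ (Fin.snoc (Function.update (Function.update y i b) j c) d) ∂μ :=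
        integral_congr_ae (Eventually.of_forall h)
      rw [integral_add (integrable_of_continuous μ (hsn _)) (integrable_of_continuous μ (hsn _)),
        integral_add (integrable_of_continuous μ (hsn _)) (integrable_of_continuous μ (hsn _))] at h'
      simp only [ψ']
      linarith
    refine ⟨φ, hφc, fun x ↦ ?_⟩
    obtain ⟨y, b, rfl⟩ : ∃ y b, Fin.snoc y b = x := ⟨Fin.init x, x (Fin.last _), Fin.snoc_init_self x⟩
    have key : ∀ a : G, ψ (Fin.snoc (Function.update y 0 a) b) = ψ' (Function.update y 0 (a + b)) -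
        (ψ' (Function.update y 0 a) + ψ' (Function.update y 0 b)) := by
      intro a
      have h := fun c : G ↦ hψ (Fin.castSucc 0) (Fin.last (n + 1)) (Fin.castSucc_lt_last _).ne
        (Fin.snoc y b) a b c
      simp only [← Fin.snoc_update, Fin.update_snoc_last] at h
      have h' : ∫ c, ψ (Fin.snoc (Function.update y 0 (a + b)) c) +
          ψ (Fin.snoc (Function.update y 0 a) b) ∂μ =
          ∫ c, ψ (Fin.snoc (Function.update y 0 a) (b + c)) +
          ψ (Fin.snoc (Function.update y 0 b) c) ∂μ :=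
        integral_congr_ae (Eventually.of_forall h)
      rw [integral_add (integrable_of_continuous μ (hsn _)) (integrable_const _),
        integral_add (integrable_of_continuous μ
            (show Continuous fun c ↦ ψ (Fin.snoc (Function.update y 0 a) (b + c)) from
              (hsn (Function.update y 0 a)).comp (continuous_const.add continuous_id)))
          (integrable_of_continuous μ (hsn _)),
        integral_add_left_eq_self (fun c ↦ ψ (Fin.snoc (Function.update y 0 a) c)) b] at h'
      simp only [integral_const, probReal_univ, one_smul] at h'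
      simp only [ψ']
      linarith
    have h0 := key (y 0)
    rw [Function.update_eq_self] at h0
    rw [h0, hφ, hφ, hφ]
    have h1 := Basic.D_snoc (n + 1) 0 y (y 0) b φ
    rw [Function.update_eq_self] at h1
    exact h1.symm

end Groth.Agent.Lib.PtDeg.Haar
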